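import Cfsg.Agent.H4.TCG.Two

/-!
# Values on the tori of `G₂(q)` (helper4; S2464, row G2(q))
-/

set_option autoImplicit false
set_option linter.unusedSectionVars false

open Cfsg Subgroup
open scoped ComplexConjugate

namespace Cfsg.Agent.H4.TCG

open Cfsg.Agent.Characters.Core Cfsg.Agent.H221.TC Cfsg.Agent.H641.TC6

universe u

variable {G : Type u} [Group G] {A T A' T' : Subgroup G} {m n m' n' : ℕ}

/-- a cube root of unity -/
theorem cube_root {u : ℂˣ} (hu : u ^ 3 = 1) (h1u : u ≠ 1) : (u : ℂ) + ((u⁻¹ : ℂˣ) : ℂ) = -1 := by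
  have h1 : (u : ℂ) ^ 3 = 1 := by
    rw [← Units.val_pow_eq_pow_val, hu, Units.val_one]
  have h2 : (u : ℂ) * ((u⁻¹ : ℂˣ) : ℂ) = 1 := Units.mul_inv u
  have h3 : ((u : ℂ) - 1) * ((u : ℂ) ^ 2 + u + 1) = 0 := by linear_combination h1
  rcases mul_eq_zero.1 h3 with h4 | h4
  · exact absurd (Units.ext (by rw [Units.val_one]; exact sub_eq_zero.1 h4)) h1u
  · linear_combination ((u⁻¹ : ℂˣ) : ℂ) * h4 - ((u : ℂ) + 1) * h2

section Main

variable [Fintype G]

open Classical in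
/-- **the values of a character with constant multiplicities** -/
theorem exists_val [Fintype T] (D : TorD G m n 6 A T) (h3 : m ∣ 3 * n) (hn : n.Coprime 3) (h2n : 2 ≤ n)
    {χ : G → ℂ} (hχ : IsIrrCharacter G χ)
    (hconst : ∀ l l' : T →* ℂˣ, Nt A l → Nt A l' → SameE 3 l l' →
      classInner (fun s : T => χ s) (lf l) = classInner (fun s : T => χ s) (lf l')) :
    ∃ b : ℤ, (∀ a ∈ A, a ≠ 1 → χ a = b) ∧ ∀ e ∈ T, e ^ 3 = 1 → ∃ N : ℤ, ∀ a ∈ A, a ≠ 1 → ∀ a' ∈ A, a' ≠ 1 →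
      χ (a * e) + χ (a' * e⁻¹) = 2 * b - 3 * N ∧ χ (a * e) = χ (a' * e) := by
  have h := tor_of D h3 hn
  have : Finite (T →* ℂˣ) := finite_hom
  have := Fintype.ofFinite (T →* ℂˣ)
  obtain ⟨f, hf⟩ := exists_mult T (isIrr_isCharacter hχ)
  have hsel : ∀ g : T →* ℂˣ, ∃ l, InFam A 3 g l := by
    intro g
    have h1 := card_fam_ge h g
    rw [D.cardA] at h1
    have h2 : 0 < Nat.card {l : T →* ℂˣ // InFam A 3 g l} := by omega
    have := (Nat.card_pos_iff.1 h2).1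
    exact ⟨this.some.1, this.some.2⟩
  choose sel hsel using hsel
  set c : (T →* ℂˣ) → ℤ := fun g => if Nt A g then 0 else f g - f (sel g) with hc
  have hval : ∀ a : T, (a : G) ∈ A → a ≠ 1 → ∀ e : T, e ^ 3 = 1 →
      χ ((a * e : T) : G) = ∑ g : T →* ℂˣ, (c g : ℂ) * ((g e : ℂˣ) : ℂ) := by
    intro a ha ha1 e he
    have h4 : (a * e) ^ 3 ≠ 1 := by
      have h5 : Commute a e := comm_T h a e
      rw [h5.mul_pow, he, mul_one]
      intro h6
      have h7 : orderOf a ∣ 3 := orderOf_dvd_of_pow_eq_one h6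
      have h8 : orderOf a ∣ n := by
        rw [← Subgroup.orderOf_coe, ← D.cardA]
        exact Subgroup.orderOf_dvd_natCard A ha
      have h9 : orderOf a ∣ Nat.gcd n 3 := Nat.dvd_gcd h8 h7
      rw [hn] at h9
      exact ha1 (orderOf_eq_one_iff.1 (Nat.dvd_one.1 h9))
    have h5 := value h (F := fun s : T => χ s) hconst (sel := sel) (fun g _ => hsel g) h4
    refine Eq.trans h5 (Finset.sum_congr rfl fun g _ => ?_)
    by_cases hg : Nt A g
    · rw [if_pos hg, hc]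
      simp [hg]
    · rw [if_neg hg, hf, hf, hc]
      have h6 : g a = 1 := by
        by_contra h7
        exact hg ⟨a, ha, h7⟩
      rw [map_mul, h6, one_mul]
      simp [hg]
  have hvalG : ∀ a ∈ A, a ≠ 1 → ∀ e : T, e ^ 3 = 1 →
      χ (a * e) = ∑ g : T →* ℂˣ, (c g : ℂ) * ((g e : ℂˣ) : ℂ) := by
    intro a ha ha1 e he
    have := hval ⟨a, D.le ha⟩ ha (fun h4 => ha1 (congrArg Subtype.val h4)) e he
    rwa [Subgroup.coe_mul] at this
  refine ⟨∑ g, c g, ?_, ?_⟩
  · intro a ha ha1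
    have := hvalG a ha ha1 1 (one_pow _)
    simp only [map_one, Units.val_one, mul_one, Subgroup.coe_one] at this
    rw [this]; push_cast; rfl
  · intro e he he3
    have he3' : (⟨e, he⟩ : T) ^ 3 = 1 := Subtype.ext (by simpa using he3)
    have he3i : (⟨e, he⟩⁻¹ : T) ^ 3 = 1 := by rw [inv_pow, he3', inv_one]
    refine ⟨∑ g : T →* ℂˣ, if g ⟨e, he⟩ = 1 then 0 else c g, ?_⟩
    intro a ha ha1 a' ha' ha1'
    have e1 := hvalG a ha ha1 ⟨e, he⟩ he3'
    have e2 := hvalG a' ha' ha1' ⟨e, he⟩⁻¹ he3i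
    have e3 := hvalG a' ha' ha1' ⟨e, he⟩ he3'
    have e4 : (((⟨e, he⟩⁻¹ : T)) : G) = e⁻¹ := rfl
    rw [e4] at e2
    refine ⟨?_, by rw [show χ (a * e) = _ from e1, show χ (a' * e) = _ from e3]⟩
    rw [show χ (a * e) = _ from e1, e2, ← Finset.sum_add_distrib, Int.cast_sum, Int.cast_sum, Finset.mul_sum,
      Finset.mul_sum, ← Finset.sum_sub_distrib]
    refine Finset.sum_congr rfl fun g _ => ?_
    rw [map_inv]
    have hu : (g ⟨e, he⟩) ^ 3 = 1 := by rw [← map_pow, he3', map_one]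
    by_cases hg1 : g ⟨e, he⟩ = 1
    · rw [if_pos hg1, hg1]
      simp only [inv_one, Units.val_one, Int.cast_zero]
      ring
    · rw [if_neg hg1]
      linear_combination (c g : ℂ) * cube_root hu hg1

/-- elements of `A - 1` -/
noncomputable def As (A : Subgroup G) : Finset G := by
  classical exact Finset.univ.filter fun a => a ∈ A ∧ a ≠ 1

theorem mem_As {a : G} : a ∈ As A ↔ a ∈ A ∧ a ≠ 1 := by
  classical
  unfold As
  rw [Finset.mem_filter]
  exact ⟨fun h => h.2, fun h => ⟨Finset.mem_univ _, h⟩⟩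

theorem card_As (D : TorD G m n 6 A T) : ((As A).card : ℝ) = n - 1 := by
  classical
  have h1 : insert (1 : G) (As A) = Finset.univ.filter fun a => a ∈ A := by
    ext a
    rw [Finset.mem_insert, mem_As, Finset.mem_filter]
    constructor
    · rintro (rfl | h)
      · exact ⟨Finset.mem_univ _, A.one_mem⟩
      · exact ⟨Finset.mem_univ _, h.1⟩
    · rintro ⟨-, h⟩
      by_cases ha : a = 1
      · exact Or.inl ha
      · exact Or.inr ⟨h, ha⟩
  have h2 : (insert (1 : G) (As A)).card = n := by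
    rw [h1, ← D.cardA, Nat.card_eq_fintype_card, Fintype.card_subtype]
  rw [Finset.card_insert_of_notMem (fun h => (mem_As.1 h).2 rfl)] at h2
  rw [← h2]; push_cast; ring

theorem pow3_ne (D : TorD G m n 6 A T) (hn : n.Coprime 3) {a : G} (ha : a ∈ A) (ha1 : a ≠ 1) : a ^ 3 ≠ 1 := by
  intro h6
  have h7 : orderOf a ∣ 3 := orderOf_dvd_of_pow_eq_one h6
  have h8 : orderOf a ∣ n := by
    rw [← D.cardA]
    exact Subgroup.orderOf_dvd_natCard A ha
  have h9 : orderOf a ∣ Nat.gcd n 3 := Nat.dvd_gcd h8 h7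
  rw [hn] at h9
  exact ha1 (orderOf_eq_one_iff.1 (Nat.dvd_one.1 h9))

/-- the share of the torus, without elements of order `3` -/
theorem share_one (D : TorD G m n 6 A T) (hn : n.Coprime 3) {χ : G → ℂ} {b : ℤ}
    (hb : ∀ a ∈ A, a ≠ 1 → χ a = b) : ((n : ℝ) - 1) * b ^ 2 ≤ ∑ s ∈ supp T 3, ‖χ s‖ ^ 2 := by
  classical
  have h1 : As A ⊆ supp T 3 := by
    intro a ha
    obtain ⟨h2, h3⟩ := mem_As.1 ha
    exact mem_supp.2 ⟨D.le h2, pow3_ne D hn h2 h3⟩
  refine le_trans ?_ (Finset.sum_le_sum_of_subset_of_nonneg h1 fun _ _ _ => sq_nonneg _)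
  have h2 : ∀ a ∈ As A, ‖χ a‖ ^ 2 = (b : ℝ) ^ 2 := by
    intro a ha
    obtain ⟨h2, h3⟩ := mem_As.1 ha
    rw [hb a h2 h3, Complex.norm_intCast, sq_abs]
  rw [Finset.sum_congr rfl h2, Finset.sum_const, nsmul_eq_mul, card_As D]

/-- the share of the torus, with elements of order `3` -/
theorem share_three (D : TorD G m n 6 A T) (hn : n.Coprime 3) {χ : G → ℂ} {b v : ℤ}
    (hb : ∀ a ∈ A, a ≠ 1 → χ a = b) {e : G} (he : e ∈ T) (heo : orderOf e = 3)
    (hv : ∀ a ∈ A, a ≠ 1 → χ (a * e) = v) (hv' : ∀ a ∈ A, a ≠ 1 → χ (a * e⁻¹) = v) :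
    ((n : ℝ) - 1) * (b ^ 2 + 2 * v ^ 2) ≤ ∑ s ∈ supp T 3, ‖χ s‖ ^ 2 := by
  classical
  have he3 : e ^ 3 = 1 := by rw [← heo]; exact pow_orderOf_eq_one e
  have hcomm : ∀ a ∈ T, Commute a e := fun a ha => comm_of_cyc D.cycT ha he
  have hpow : ∀ i : G, (i = 1 ∨ i = e ∨ i = e⁻¹) → i ∈ T ∧ i ^ 3 = 1 := by
    rintro i (rfl | rfl | rfl)
    · exact ⟨T.one_mem, one_pow _⟩
    · exact ⟨he, he3⟩
    · exact ⟨T.inv_mem he, by rw [inv_pow, he3, inv_one]⟩
  have hmem : ∀ i : G, i ∈ ({1, e, e⁻¹} : Finset G) ↔ (i = 1 ∨ i = e ∨ i = e⁻¹) := by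
    intro i; simp
  have hinj : Set.InjOn (fun p : G × G => p.1 * p.2) ↑((As A) ×ˢ ({1, e, e⁻¹} : Finset G)) := by
    rintro ⟨a, i⟩ hp ⟨a', i'⟩ hp' heq
    rw [Finset.mem_coe, Finset.mem_product] at hp hp'
    obtain ⟨h1, h2⟩ := hp
    obtain ⟨h1', h2'⟩ := hp'
    simp only at h1 h2 h1' h2' heq
    obtain ⟨h3, h4⟩ := hpow i ((hmem i).1 h2)
    obtain ⟨h3', h4'⟩ := hpow i' ((hmem i').1 h2')
    have hA := (mem_As.1 h1).1
    have hA' := (mem_As.1 h1').1
    have hc : ∀ s ∈ T, ∀ t ∈ T, s * t = t * s := fun s hs t ht => comm_of_cyc D.cycT hs ht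
    have h5 : a'⁻¹ * a = i' * i⁻¹ := by
      rw [inv_mul_eq_iff_eq_mul, ← mul_assoc, eq_mul_inv_iff_mul_eq]
      exact heq
    have h6 : a'⁻¹ * a = 1 := by
      by_contra h7
      have h8 := pow3_ne D hn (A.mul_mem (A.inv_mem hA') hA) h7
      apply h8
      rw [h5]
      have h9 : Commute i' i⁻¹ := hc i' h3' i⁻¹ (T.inv_mem h3)
      rw [h9.mul_pow, h4', inv_pow, h4, inv_one, one_mul]
    have h7 : a = a' := by rw [← mul_one a', ← h6]; group
    have h8 : i = i' := by rw [h7] at heq; exact mul_left_cancel heq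
    rw [h7, h8]
  have h1 : ((As A) ×ˢ ({1, e, e⁻¹} : Finset G)).image (fun p => p.1 * p.2) ⊆ supp T 3 := by
    intro g hg
    obtain ⟨⟨a, i⟩, hp, rfl⟩ := Finset.mem_image.1 hg
    rw [Finset.mem_product] at hp
    obtain ⟨h2, h3⟩ := mem_As.1 hp.1
    obtain ⟨h4, h5⟩ := hpow i ((hmem i).1 hp.2)
    refine mem_supp.2 ⟨T.mul_mem (D.le h2) h4, ?_⟩
    have h6 : Commute a i := comm_of_cyc D.cycT (D.le h2) h4
    show (a * i) ^ 3 ≠ 1
    rw [h6.mul_pow, h5, mul_one]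
    exact pow3_ne D hn h2 h3
  refine le_trans ?_ (Finset.sum_le_sum_of_subset_of_nonneg h1 fun _ _ _ => sq_nonneg _)
  rw [Finset.sum_image hinj, Finset.sum_product]
  have hne1 : (1 : G) ∉ ({e, e⁻¹} : Finset G) := by
    rw [Finset.mem_insert, Finset.mem_singleton]
    rintro (h2 | h2)
    · rw [← h2, orderOf_one] at heo; omega
    · have : e = 1 := inv_eq_one.1 h2.symm
      rw [this, orderOf_one] at heo; omega
  have hne2 : e ∉ ({e⁻¹} : Finset G) := by
    rw [Finset.mem_singleton]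
    intro h2
    have h4 : e ^ 2 = 1 := by rw [pow_two]; nth_rewrite 2 [h2]; rw [mul_inv_cancel]
    have h5 := orderOf_dvd_of_pow_eq_one h4
    rw [heo] at h5
    omega
  have h2 : ∀ a ∈ As A, ∑ i ∈ ({1, e, e⁻¹} : Finset G), ‖χ (a * i)‖ ^ 2 = (b : ℝ) ^ 2 + 2 * v ^ 2 := by
    intro a ha
    obtain ⟨h3, h4⟩ := mem_As.1 ha
    rw [Finset.sum_insert hne1, Finset.sum_insert hne2, Finset.sum_singleton, mul_one, hb a h3 h4, hv a h3 h4,
      hv' a h3 h4, Complex.norm_intCast, Complex.norm_intCast, sq_abs, sq_abs]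
    ring
  rw [Finset.sum_congr rfl h2, Finset.sum_const, nsmul_eq_mul, card_As D]

/-- **The values on one torus of a character nonzero on the other.** -/
theorem value_two (D : TorD G m n 6 A T) (h3 : m ∣ 3 * n) (hn : n.Coprime 3) (h37 : 37 ≤ n)
    (D' : TorD G m' n' 6 A' T') (h3' : m' ∣ 3 * n') (hn' : n'.Coprime 3) (h37' : 37 ≤ n') (hne : m ≠ m')
    (hk : 36 * n' + n ≤ n * n') (hinv : 3 ∣ m → ∃ x ∈ normalizer (T : Set G), ∀ t ∈ T, x⁻¹ * t * x = t⁻¹)
    {χ : G → ℂ} (hχ : IsIrrCharacter G χ) {y : G} (hy : y ∈ supp T' 3) (hy0 : χ y ≠ 0) :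
    ∃ b : ℤ, |b| ≤ 2 ∧ ∀ a ∈ A, a ≠ 1 → χ a = b := by
  classical
  have := Fintype.ofFinite T
  have : Finite (T →* ℂˣ) := finite_hom
  have := Fintype.ofFinite (T →* ℂˣ)
  have h := tor_of D h3 hn
  have h' := tor_of D' h3' hn'
  obtain ⟨b, hb, hE⟩ := exists_val D h3 hn (by omega) hχ
    (fun l l' hl hl' hs => const_mult D h3 hn D' h3' hn' hne hk hχ hy hy0 l l' hl hl' hs)
  refine ⟨b, ?_, hb⟩
  have h5 := joint h h' (by rw [D.cardT, D'.cardT]; exact hne) hχ
  have h6 := share_ge D' h3' hn' hχ hy hy0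
  have hN : Nat.card (normalizer (T : Set G)) = 6 * m := by rw [← D.normA, D.cardN]
  have hnR : (37 : ℝ) ≤ n := by exact_mod_cast h37
  have hnR' : (37 : ℝ) ≤ n' := by exact_mod_cast h37'
  have h7 : (1 : ℝ) / 6 - 1 / 222 ≤ ((n' : ℝ) - 1) / (6 * n') := by
    rw [le_div_iff₀ (by positivity)]
    nlinarith
  have h8 : (∑ s ∈ supp T 3, ‖χ s‖ ^ 2) / (Nat.card (normalizer (T : Set G)) : ℝ) < 5 / 6 + 1 / 222 := by linarith
  rw [hN] at h8
  rcases m_cases D h3 hn with ⟨h9, h10⟩ | ⟨h9, h10⟩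
  · -- no elements of order `3`
    have h11 := share_one D hn hb
    rw [h9] at h8
    push_cast at h8
    rw [div_lt_iff₀ (by positivity)] at h8
    have h12 : ((n : ℝ) - 1) * b ^ 2 < (5 / 6 + 1 / 222) * (6 * n) := lt_of_le_of_lt h11 h8
    have h13 : (b : ℝ) ^ 2 < 9 := by
      by_contra hc
      push Not at hc
      nlinarith
    have h14 : b ^ 2 < 9 := by exact_mod_cast h13
    rw [abs_le]
    constructor <;> nlinarith
  · -- elements of order `3`
    have : Fact (Nat.Prime 3) := ⟨Nat.prime_three⟩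
    obtain ⟨⟨e, he⟩, heo'⟩ := exists_prime_orderOf_dvd_card' (G := T) 3 (by rw [D.cardT]; exact h10)
    have heo : orderOf e = 3 := by rw [← heo', ← Subgroup.orderOf_coe]
    have he3 : e ^ 3 = 1 := by rw [← heo]; exact pow_orderOf_eq_one e
    obtain ⟨N, hNN⟩ := hE e he he3
    obtain ⟨x, hx, hxT⟩ := hinv h10
    have hcf := isIrr_isClassFunction hχ
    rw [isClassFunction_def] at hcf
    obtain ⟨a₀, ha₀, ha₀1⟩ : ∃ a ∈ A, a ≠ 1 := by
      have h11 : 1 < Nat.card A := by rw [D.cardA]; omega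
      have h12 : Nontrivial A := Finite.one_lt_card_iff_nontrivial.1 h11
      obtain ⟨a, ha⟩ := exists_ne (1 : A)
      exact ⟨a, a.2, fun h => ha (Subtype.ext h)⟩
    have hrev : ∀ a ∈ A, a ≠ 1 → χ (a * e) = χ (a⁻¹ * e⁻¹) := by
      intro a ha ha1
      have h11 : x⁻¹ * (a * e) * x = a⁻¹ * e⁻¹ := by
        have h12 := hxT (a * e) (T.mul_mem (D.le ha) he)
        rw [h12, mul_inv_rev]
        exact comm_of_cyc D.cycT (T.inv_mem he) (T.inv_mem (D.le ha))
      have h13 := hcf (a * e) x⁻¹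
      rw [inv_inv, h11] at h13
      exact h13.symm
    set v₀ : ℂ := χ (a₀ * e) with hv₀
    have hv : ∀ a ∈ A, a ≠ 1 → χ (a * e) = v₀ := fun a ha ha1 => (hNN a ha ha1 a₀ ha₀ ha₀1).2
    have hv' : ∀ a ∈ A, a ≠ 1 → χ (a * e⁻¹) = v₀ := by
      intro a ha ha1
      have h11 := hrev a⁻¹ (A.inv_mem ha) (inv_ne_one.2 ha1)
      rw [inv_inv] at h11
      rw [← h11]
      exact hv a⁻¹ (A.inv_mem ha) (inv_ne_one.2 ha1)
    have h2v : 2 * v₀ = 2 * b - 3 * N := by
      have h11 := (hNN a₀ ha₀ ha₀1 a₀ ha₀ ha₀1).1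
      rw [hv a₀ ha₀ ha₀1, hv' a₀ ha₀ ha₀1] at h11
      linear_combination h11
    obtain ⟨v, hvZ⟩ : ∃ v : ℤ, v₀ = v := by
      refine Cfsg.Agent.Characters.GaloisBasic.exists_int_of_rat (isIrr_isCharacter hχ) (a₀ * e)
        ⟨((2 * b - 3 * N : ℤ) : ℚ) / 2, ?_⟩
      push_cast
      rw [← hv₀]
      linear_combination h2v / 2
    have h3v : 2 * v = 2 * b - 3 * N := by
      rw [hvZ] at h2v
      exact_mod_cast h2v
    have hvZ1 : ∀ a ∈ A, a ≠ 1 → χ (a * e) = v := fun a ha ha1 => by rw [hv a ha ha1, hvZ]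
    have hvZ2 : ∀ a ∈ A, a ≠ 1 → χ (a * e⁻¹) = v := fun a ha ha1 => by rw [hv' a ha ha1, hvZ]
    have h11 := share_three D hn hb he heo hvZ1 hvZ2
    rw [h9] at h8
    push_cast at h8
    rw [div_lt_iff₀ (by positivity)] at h8
    have h12 : ((n : ℝ) - 1) * (b ^ 2 + 2 * v ^ 2) < (5 / 6 + 1 / 222) * (6 * (n * 3)) := lt_of_le_of_lt h11 h8
    have h13 : (b : ℝ) ^ 2 + 2 * v ^ 2 < 16 := by
      by_contra hc
      push Not at hc
      nlinarith
    have h14 : b ^ 2 + 2 * v ^ 2 < 16 := by exact_mod_cast h13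
    by_contra hcon
    push Not at hcon
    have h15 : b = 3 ∨ b = -3 := by
      have e1 : b ^ 2 < 16 := by nlinarith [sq_nonneg v]
      have e2 : |b| < 4 := by
        rw [abs_lt]; constructor <;> nlinarith
      rcases abs_cases b with ⟨e3, -⟩ | ⟨e3, -⟩ <;> omega
    have h16 : v = 0 := by
      have e1 : b ^ 2 = 9 := by rcases h15 with h | h <;> rw [h] <;> norm_num
      have e2 : v ^ 2 < 4 := by nlinarith
      have e3 : |v| < 2 := by
        rw [abs_lt]; constructor <;> nlinarith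
      have e4 : (3 : ℤ) ∣ 2 * v := by
        rw [h3v]
        rcases h15 with h | h <;> rw [h]
        · exact ⟨2 - N, by ring⟩
        · exact ⟨-2 - N, by ring⟩
      rw [abs_lt] at e3
      omega
    -- helper221's exclusion
    obtain ⟨r, hr, hrn⟩ := Nat.exists_prime_and_dvd (n := n) (by omega)
    have hfr : Fact r.Prime := ⟨hr⟩
    obtain ⟨⟨s, hs⟩, hso'⟩ := exists_prime_orderOf_dvd_card' (G := A) r (by rw [D.cardA]; exact hrn)
    have hso : orderOf s = r := by rw [← hso', ← Subgroup.orderOf_coe]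
    have hs1 : s ≠ 1 := by
      rintro rfl
      rw [orderOf_one] at hso
      exact hr.one_lt.ne hso
    have hr3 : r ≠ 3 := by
      rintro rfl
      have := Nat.dvd_gcd hrn (dvd_refl 3)
      rw [hn] at this
      omega
    refine not_three hχ hr hr3 hso heo (comm_of_cyc D.cycT (D.le hs) he) ?_ ?_ h15 (hb s hs hs1)
      (by rw [hvZ1 s hs hs1, h16]; norm_num) (by rw [hvZ2 s hs hs1, h16]; norm_num)
    · intro k hk' hsk
      have hkT : k ∈ T := by
        rw [← D.cent s hs hs1, mem_centralizer_singleton_iff]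
        exact hsk.eq.symm
      have hko : orderOf k = 3 := by
        obtain ⟨c, hc⟩ := isConj_iff.1 hk'
        rw [← hc, orderOf_conj, heo]
      -- the elements of order `3` of a cyclic group
      have hcyc := D.cycT
      have h17 : k ∈ zpowers e := Cfsg.Agent.H56.Exc.mem_zpowers_of_cyclic hcyc he hkT (by rw [hko, heo])
      obtain ⟨j, hj⟩ := mem_zpowers_iff.1 h17
      have hj' : e ^ j = k := hj
      have h19 : j % 3 = 0 ∨ j % 3 = 1 ∨ j % 3 = 2 := by omega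
      have h20 : e ^ j = e ^ (j % 3) := by
        have : e ^ j = e ^ (3 * (j / 3) + j % 3) := by rw [Int.mul_ediv_add_emod]
        rw [this, zpow_add, zpow_mul]
        have e3 : e ^ (3 : ℤ) = 1 := by exact_mod_cast he3
        rw [e3, one_zpow, one_mul]
      rw [h20] at hj'
      rcases h19 with h21 | h21 | h21
      · rw [h21, zpow_zero] at hj'
        rw [← hj', orderOf_one] at hko
        omega
      · rw [h21, zpow_one] at hj'
        exact Or.inl hj'.symm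
      · right
        rw [h21] at hj'
        rw [← hj']
        have e3 : e ^ (2 : ℤ) * e = 1 := by
          have : e ^ (2 : ℤ) = e ^ 2 := by exact_mod_cast rfl
          rw [this, ← pow_succ]; exact he3
        exact eq_inv_of_mul_eq_one_left e3
    · rw [isConj_iff]
      exact ⟨x⁻¹, by rw [inv_inv]; exact hxT e he⟩

end Main

end Cfsg.Agent.H4.TCG
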