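import Mathlib

/-!
# A counting inequality for integer functions on the classes of an equivalence relation (helper4; S2464, row G2(q))
-/

set_option autoImplicit false

namespace Cfsg.Agent.H4.TCG

variable {X : Type*} [Fintype X] [DecidableEq X] {r : X → X → Prop} [DecidableRel r]

/-- the number of elements of the class of `a` with another value -/
def dd (r : X → X → Prop) [DecidableRel r] (f : X → ℤ) (a : X) : ℕ :=
  (Finset.univ.filter fun b => r a b ∧ f a ≠ f b).card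

/-- the quadratic form -/
def QQ (r : X → X → Prop) [DecidableRel r] (f : X → ℤ) : ℤ :=
  ∑ a : X, ∑ b : X, if r a b then (f a - f b) ^ 2 else 0

/-- the indicator -/
def rho (r : X → X → Prop) [DecidableRel r] (f : X → ℤ) (a b : X) : ℤ := if r a b ∧ f a ≠ f b then 1 else 0

theorem rho_nonneg (f : X → ℤ) (a b : X) : 0 ≤ rho r f a b := by
  unfold rho; split_ifs <;> norm_num

theorem rho_le_one (f : X → ℤ) (a b : X) : rho r f a b ≤ 1 := by
  unfold rho; split_ifs <;> norm_num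

theorem rho_symm (hs : ∀ a b, r a b → r b a) (f : X → ℤ) (a b : X) : rho r f a b = rho r f b a := by
  unfold rho
  have : (r a b ∧ f a ≠ f b) ↔ (r b a ∧ f b ≠ f a) :=
    ⟨fun h => ⟨hs _ _ h.1, h.2.symm⟩, fun h => ⟨hs _ _ h.1, h.2.symm⟩⟩
  simp only [this]

theorem sum_rho (f : X → ℤ) (a : X) : ∑ b : X, rho r f a b = (dd r f a : ℤ) := by
  unfold rho dd
  rw [Finset.card_filter]
  push_cast
  rfl

theorem rho_le_sq (f : X → ℤ) (a b : X) : rho r f a b ≤ if r a b then (f a - f b) ^ 2 else 0 := by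
  unfold rho
  by_cases h : r a b
  · by_cases h2 : f a = f b
    · simp [h2]
    · have h3 : f a - f b ≠ 0 := sub_ne_zero.2 h2
      have h4 : 1 ≤ (f a - f b) ^ 2 := by
        have := sq_nonneg (f a - f b)
        have h5 : (f a - f b) ^ 2 ≠ 0 := pow_ne_zero 2 h3
        omega
      simp [h, h2, h4]
  · simp [h]

theorem sum_rho_le (f : X → ℤ) : ∑ a : X, ∑ b : X, rho r f a b ≤ QQ r f :=
  Finset.sum_le_sum fun a _ => Finset.sum_le_sum fun b _ => rho_le_sq f a b

/-- the general inequality for a set `S` -/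
theorem QQ_ge_set (hs : ∀ a b, r a b → r b a) (f : X → ℤ) (S : Finset X) :
    2 * ∑ a ∈ S, (dd r f a : ℤ) - ∑ a ∈ S, ∑ b ∈ S, rho r f a b ≤ QQ r f := by
  refine le_trans ?_ (sum_rho_le f)
  have h1 : ∑ a : X, ∑ b : X, rho r f a b = ∑ a ∈ S, ∑ b : X, rho r f a b + ∑ a ∈ Sᶜ, ∑ b : X, rho r f a b :=
    (Finset.sum_add_sum_compl S _).symm
  have h2 : ∑ a ∈ Sᶜ, ∑ b ∈ S, rho r f a b ≤ ∑ a ∈ Sᶜ, ∑ b : X, rho r f a b := by
    refine Finset.sum_le_sum fun a _ => ?_
    exact Finset.sum_le_sum_of_subset_of_nonneg (Finset.subset_univ _) fun b _ _ => rho_nonneg f a b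
  have h3 : ∑ a ∈ S, ∑ b ∈ S, rho r f a b + ∑ a ∈ Sᶜ, ∑ b ∈ S, rho r f a b = ∑ a : X, ∑ b ∈ S, rho r f a b :=
    Finset.sum_add_sum_compl S _
  have h4 : ∑ a : X, ∑ b ∈ S, rho r f a b = ∑ b ∈ S, (dd r f b : ℤ) := by
    rw [Finset.sum_comm]
    refine Finset.sum_congr rfl fun b _ => ?_
    rw [← sum_rho]
    exact Finset.sum_congr rfl fun a _ => rho_symm hs f a b
  have h5 : ∑ a ∈ S, ∑ b : X, rho r f a b = ∑ a ∈ S, (dd r f a : ℤ) := Finset.sum_congr rfl fun a _ => sum_rho f a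
  rw [h1, h5]
  linarith

/-- **two sets of size `w` with two different values** -/
theorem QQ_ge (hs : ∀ a b, r a b → r b a) (f : X → ℤ) {S₁ S₂ : Finset X} {w k d₁ d₂ : ℕ} {u v : ℤ}
    (h₁ : S₁.card = w) (h₂ : S₂.card = w) (hu : ∀ a ∈ S₁, f a = u) (hv : ∀ a ∈ S₂, f a = v) (huv : u ≠ v)
    (hd₁ : ∀ a ∈ S₁, d₁ ≤ dd r f a) (hd₂ : ∀ a ∈ S₂, d₂ ≤ dd r f a) (hk : k ≤ d₁ + d₂) :
    (2 * w * k : ℤ) - 2 * w ^ 2 ≤ QQ r f := by
  have hdis : Disjoint S₁ S₂ := by
    rw [Finset.disjoint_left]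
    intro a ha hb
    exact huv ((hu a ha).symm.trans (hv a hb))
  refine le_trans ?_ (QQ_ge_set hs f (S₁ ∪ S₂))
  have h3 : (w * k : ℤ) ≤ ∑ a ∈ S₁ ∪ S₂, (dd r f a : ℤ) := by
    rw [Finset.sum_union hdis]
    have e1 : (w : ℤ) * d₁ ≤ ∑ a ∈ S₁, (dd r f a : ℤ) := by
      have := Finset.card_nsmul_le_sum S₁ (fun a => (dd r f a : ℤ)) (d₁ : ℤ) fun a ha => by exact_mod_cast hd₁ a ha
      rw [h₁, nsmul_eq_mul] at this
      exact this
    have e2 : (w : ℤ) * d₂ ≤ ∑ a ∈ S₂, (dd r f a : ℤ) := by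
      have := Finset.card_nsmul_le_sum S₂ (fun a => (dd r f a : ℤ)) (d₂ : ℤ) fun a ha => by exact_mod_cast hd₂ a ha
      rw [h₂, nsmul_eq_mul] at this
      exact this
    have e3 : (w * k : ℤ) ≤ w * d₁ + w * d₂ := by
      rw [← mul_add]
      exact mul_le_mul_of_nonneg_left (by exact_mod_cast hk) (Int.natCast_nonneg _)
    linarith
  have h4 : ∑ a ∈ S₁ ∪ S₂, ∑ b ∈ S₁ ∪ S₂, rho r f a b ≤ 2 * (w : ℤ) ^ 2 := by
    rw [Finset.sum_union hdis]
    have z : ∀ (U : Finset X) (c : ℤ), (∀ a ∈ U, f a = c) → ∀ a ∈ U, ∀ b ∈ U, rho r f a b = 0 := by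
      intro U c hU a ha b hb
      unfold rho
      rw [if_neg]
      rintro ⟨-, h⟩
      exact h ((hU a ha).trans (hU b hb).symm)
    have e1 : ∑ a ∈ S₁, ∑ b ∈ S₁ ∪ S₂, rho r f a b ≤ (w : ℤ) ^ 2 := by
      have : ∀ a ∈ S₁, ∑ b ∈ S₁ ∪ S₂, rho r f a b ≤ (w : ℤ) := by
        intro a ha
        rw [Finset.sum_union hdis, Finset.sum_eq_zero (z S₁ u hu a ha), zero_add]
        refine le_trans (Finset.sum_le_sum fun b _ => rho_le_one f a b) ?_
        simp [h₂]
      refine le_trans (Finset.sum_le_sum this) ?_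
      simp [h₁, sq]
    have e2 : ∑ a ∈ S₂, ∑ b ∈ S₁ ∪ S₂, rho r f a b ≤ (w : ℤ) ^ 2 := by
      have : ∀ a ∈ S₂, ∑ b ∈ S₁ ∪ S₂, rho r f a b ≤ (w : ℤ) := by
        intro a ha
        rw [Finset.sum_union hdis, Finset.sum_eq_zero (z S₂ v hv a ha), add_zero]
        refine le_trans (Finset.sum_le_sum fun b _ => rho_le_one f a b) ?_
        simp [h₁]
      refine le_trans (Finset.sum_le_sum this) ?_
      simp [h₂, sq]
    linarith
  linarith

/-- two related elements with different values: the numbers `dd` add up to at least the size of the class -/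
theorem dd_add (hs : ∀ a b, r a b → r b a) (ht : ∀ a b c, r a b → r b c → r a c) (f : X → ℤ) {a a' : X} {k : ℕ}
    (hk : k ≤ (Finset.univ.filter fun b => r a b).card) (haa : r a a') (hf : f a ≠ f a') :
    k ≤ dd r f a + dd r f a' := by
  refine hk.trans ?_
  unfold dd
  refine le_trans (Finset.card_le_card ?_) (Finset.card_union_le _ _)
  intro b hb
  have hb' := (Finset.mem_filter.1 hb).2
  rw [Finset.mem_union, Finset.mem_filter, Finset.mem_filter]
  by_cases h : f a = f b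
  · right
    exact ⟨Finset.mem_univ _, ht _ _ _ (hs _ _ haa) hb', fun h2 => hf (h.trans h2.symm)⟩
  · left
    exact ⟨Finset.mem_univ _, hb', h⟩

/-- one pair with different values -/
theorem QQ_ge_two (hs : ∀ a b, r a b → r b a) (ht : ∀ a b c, r a b → r b c → r a c) (f : X → ℤ) {a a' : X} {k : ℕ}
    (hk : k ≤ (Finset.univ.filter fun b => r a b).card) (haa : r a a') (hf : f a ≠ f a') :
    2 * (k : ℤ) - 2 ≤ QQ r f := by
  have := QQ_ge (S₁ := {a}) (S₂ := {a'}) (w := 1) (k := k) (d₁ := dd r f a) (d₂ := dd r f a') (u := f a) (v := f a')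
    hs f (by simp) (by simp) (by simp) (by simp) hf (by simp) (by simp) (dd_add hs ht f hk haa hf)
  push_cast at this
  linarith

/-- a form different from `0` has a pair with different values -/
theorem exists_pair (f : X → ℤ) (h : QQ r f ≠ 0) : ∃ a b, r a b ∧ f a ≠ f b := by
  by_contra hc
  push Not at hc
  apply h
  unfold QQ
  refine Finset.sum_eq_zero fun a _ => Finset.sum_eq_zero fun b _ => ?_
  by_cases hab : r a b
  · rw [if_pos hab, hc a b hab, sub_self]; norm_num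
  · rw [if_neg hab]

end Cfsg.Agent.H4.TCG
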