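import Cfsg.Agent.H221.TC.Gram

/-!
# The norm of a character on the support of two tori (helper4; S2464, row G2(q))
-/

set_option autoImplicit false
set_option linter.unusedSectionVars false

open Cfsg Subgroup
open scoped ComplexConjugate

namespace Cfsg.Agent.H4.TCG

open Cfsg.Agent.Characters.Core Cfsg.Agent.H221.TC

universe u

variable {G : Type u} [Group G]

/-- the support: the elements of `T` whose `m`-th power is not `1` -/
noncomputable def supp [Fintype G] (T : Subgroup G) (m : ℕ) : Finset G := by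
  classical exact Finset.univ.filter fun s => s ∈ T ∧ s ^ m ≠ 1

theorem mem_supp [Fintype G] {T : Subgroup G} {m : ℕ} {s : G} : s ∈ supp T m ↔ s ∈ T ∧ s ^ m ≠ 1 := by
  classical
  unfold supp
  rw [Finset.mem_filter]
  exact ⟨fun h => h.2, fun h => ⟨Finset.mem_univ _, h⟩⟩

/-- the conjugates of the support -/
noncomputable def csupp [Fintype G] (T : Subgroup G) (m : ℕ) : Finset G := by
  classical exact Finset.univ.filter fun g => ∃ x, x⁻¹ * g * x ∈ supp T m

theorem mem_csupp [Fintype G] {T : Subgroup G} {m : ℕ} {g : G} : g ∈ csupp T m ↔ ∃ x, x⁻¹ * g * x ∈ supp T m := by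
  classical
  unfold csupp
  rw [Finset.mem_filter]
  exact ⟨fun h => h.2, fun h => ⟨Finset.mem_univ _, h⟩⟩

variable {A T A' T' : Subgroup G} {m m' : ℕ}

/-- **trivial intersections** -/
theorem ti_sum [Fintype G] (h : Tor A T m) {φ : G → ℝ} (h0 : ∀ g, 0 ≤ φ g) (hφ : ∀ x g, φ (x⁻¹ * g * x) = φ g) :
    (Nat.card G : ℝ) * ∑ s ∈ supp T m, φ s ≤
      Nat.card (normalizer (T : Set G)) * ∑ g ∈ csupp T m, φ g := by
  classical
  have h1 : (Nat.card G : ℝ) * ∑ s ∈ supp T m, φ s = ∑ x : G, ∑ g : G, if x⁻¹ * g * x ∈ supp T m then φ g else 0 := by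
    have h2 : ∀ x : G, ∑ g : G, (if x⁻¹ * g * x ∈ supp T m then φ g else 0) = ∑ s ∈ supp T m, φ s := by
      intro x
      rw [← Finset.sum_filter]
      refine Finset.sum_bij' (fun g _ => x⁻¹ * g * x) (fun s _ => x * s * x⁻¹) ?_ ?_ ?_ ?_ ?_
      · intro g hg; exact (Finset.mem_filter.1 hg).2
      · intro s hs
        refine Finset.mem_filter.2 ⟨Finset.mem_univ _, ?_⟩
        have : x⁻¹ * (x * s * x⁻¹) * x = s := by group
        rwa [this]
      · intro g _; group
      · intro s _; group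
      · intro g _; exact (hφ x g).symm
    rw [Finset.sum_congr rfl fun x _ => h2 x, Finset.sum_const, Finset.card_univ, ← Nat.card_eq_fintype_card,
      nsmul_eq_mul]
  rw [h1, Finset.sum_comm, Finset.mul_sum]
  have h3 : ∀ g : G, ∑ x : G, (if x⁻¹ * g * x ∈ supp T m then φ g else 0) =
      ((Finset.univ.filter fun x => x⁻¹ * g * x ∈ supp T m).card : ℝ) * φ g := by
    intro g
    rw [← Finset.sum_filter, Finset.sum_const, nsmul_eq_mul]
  rw [Finset.sum_congr rfl fun g _ => h3 g]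
  have h4 : ∑ g ∈ csupp T m, ((Finset.univ.filter fun x => x⁻¹ * g * x ∈ supp T m).card : ℝ) * φ g =
      ∑ g : G, ((Finset.univ.filter fun x => x⁻¹ * g * x ∈ supp T m).card : ℝ) * φ g := by
    refine Finset.sum_subset (Finset.subset_univ _) fun g _ hg => ?_
    have h5 : (Finset.univ.filter fun x => x⁻¹ * g * x ∈ supp T m) = ∅ := by
      rw [Finset.filter_eq_empty_iff]
      intro x _ hx
      exact hg (mem_csupp.2 ⟨x, hx⟩)
    rw [h5]; simp
  rw [← h4]
  refine Finset.sum_le_sum fun g hg => mul_le_mul_of_nonneg_right ?_ (h0 g)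
  obtain ⟨x₀, hx₀⟩ := mem_csupp.1 hg
  obtain ⟨h6, h7⟩ := mem_supp.1 hx₀
  -- the map `x ↦ x₀⁻¹ x` into the normalizer
  have h8 : (Finset.univ.filter fun x => x⁻¹ * g * x ∈ supp T m).card ≤ Nat.card (normalizer (T : Set G)) := by
    have h9 : (Finset.univ.filter fun x : G => x ∈ normalizer (T : Set G)).card = Nat.card (normalizer (T : Set G)) := by
      rw [Nat.card_eq_fintype_card, Fintype.card_subtype]
    rw [← h9]
    refine Finset.card_le_card_of_injOn (fun x => x₀⁻¹ * x) ?_ ?_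
    · intro x hx
      have hx' := (mem_supp.1 (Finset.mem_filter.1 (Finset.mem_coe.1 hx)).2).1
      refine Finset.mem_coe.2 (Finset.mem_filter.2 ⟨Finset.mem_univ _, ?_⟩)
      refine h.ti h6 h7 ?_
      have : (x₀⁻¹ * x)⁻¹ * (x₀⁻¹ * g * x₀) * (x₀⁻¹ * x) = x⁻¹ * g * x := by group
      rwa [this]
    · intro x _ y _ hxy
      exact mul_left_cancel hxy
  exact_mod_cast h8

/-- the centralizer of an element of the support -/
theorem cent_supp [Fintype G] (h : Tor A T m) {s : G} (hs : s ∈ supp T m) : centralizer ({s} : Set G) = T := by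
  obtain ⟨h1, h2⟩ := mem_supp.1 hs
  apply le_antisymm
  · intro x hx
    rw [mem_centralizer_singleton_iff] at hx
    exact h.cent' h1 h2 hx
  · intro x hx
    rw [mem_centralizer_singleton_iff]
    exact h.comm x hx s h1

/-- the supports of tori of different orders do not meet -/
theorem disjoint_csupp [Fintype G] (h : Tor A T m) (h' : Tor A' T' m') (hne : Nat.card T ≠ Nat.card T') :
    Disjoint (csupp T m) (csupp T' m') := by
  rw [Finset.disjoint_left]
  intro g hg hg'
  obtain ⟨x, hx⟩ := mem_csupp.1 hg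
  obtain ⟨y, hy⟩ := mem_csupp.1 hg'
  apply hne
  have key : ∀ {B U : Subgroup G} {k : ℕ} (_ : Tor B U k) {z : G}, z⁻¹ * g * z ∈ supp U k →
      Nat.card U = Nat.card (centralizer ({g} : Set G)) := by
    intro B U k hU z hz
    rw [← cent_supp hU hz]
    refine Nat.card_congr ⟨fun w => ⟨z * w * z⁻¹, ?_⟩, fun w => ⟨z⁻¹ * w * z, ?_⟩, ?_, ?_⟩
    · have hw := w.2
      rw [mem_centralizer_singleton_iff] at hw ⊢
      calc z * w * z⁻¹ * g = z * (w * (z⁻¹ * g * z)) * z⁻¹ := by group
        _ = z * ((z⁻¹ * g * z) * w) * z⁻¹ := by rw [hw]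
        _ = _ := by group
    · have hw := w.2
      rw [mem_centralizer_singleton_iff] at hw ⊢
      calc z⁻¹ * w * z * (z⁻¹ * g * z) = z⁻¹ * (w * g) * z := by group
        _ = z⁻¹ * (g * w) * z := by rw [hw]
        _ = _ := by group
    · intro w; ext; simp [mul_assoc]
    · intro w; ext; simp [mul_assoc]
  rw [key h hx, key h' hy]

theorem one_notMem_csupp [Fintype G] : (1 : G) ∉ csupp T m := by
  intro h
  obtain ⟨x, hx⟩ := mem_csupp.1 h
  have := (mem_supp.1 hx).2
  simp at this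

/-- the norm of an irreducible character -/
theorem sum_norm [Fintype G] {χ : G → ℂ} (hχ : IsIrrCharacter G χ) : ∑ g : G, ‖χ g‖ ^ 2 = (Nat.card G : ℝ) := by
  have h1 := classInner_irr_self hχ
  rw [classInner_def] at h1
  have h2 : (Nat.card G : ℂ) ≠ 0 := card_ne_zero_complex
  have h3 : ∑ g : G, χ g * conj (χ g) = (Nat.card G : ℂ) := by
    have := congrArg ((Nat.card G : ℂ) * ·) h1
    simpa [← mul_assoc, mul_inv_cancel₀ h2] using this
  have h4 : (((∑ g : G, ‖χ g‖ ^ 2 : ℝ)) : ℂ) = (Nat.card G : ℂ) := by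
    rw [← h3]
    push_cast
    refine Finset.sum_congr rfl fun g _ => ?_
    rw [Complex.mul_conj, Complex.normSq_eq_norm_sq]
    push_cast; rfl
  exact_mod_cast h4

/-- **The joint inequality.** -/
theorem joint [Fintype G] (h : Tor A T m) (h' : Tor A' T' m') (hne : Nat.card T ≠ Nat.card T')
    {χ : G → ℂ} (hχ : IsIrrCharacter G χ) :
    (∑ s ∈ supp T m, ‖χ s‖ ^ 2) / Nat.card (normalizer (T : Set G)) +
      (∑ s ∈ supp T' m', ‖χ s‖ ^ 2) / Nat.card (normalizer (T' : Set G)) < 1 := by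
  classical
  have hcf := isIrr_isClassFunction hχ
  rw [isClassFunction_def] at hcf
  have hφ : ∀ x g : G, ‖χ (x⁻¹ * g * x)‖ ^ 2 = ‖χ g‖ ^ 2 := by
    intro x g
    have := hcf g x⁻¹
    rw [inv_inv] at this
    rw [this]
  have h1 := ti_sum h (φ := fun g => ‖χ g‖ ^ 2) (fun g => sq_nonneg _) hφ
  have h2 := ti_sum h' (φ := fun g => ‖χ g‖ ^ 2) (fun g => sq_nonneg _) hφ
  have hG : (0 : ℝ) < Nat.card G := by exact_mod_cast Nat.card_pos
  have hN : (0 : ℝ) < Nat.card (normalizer (T : Set G)) := by exact_mod_cast Nat.card_pos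
  have hN' : (0 : ℝ) < Nat.card (normalizer (T' : Set G)) := by exact_mod_cast Nat.card_pos
  have h3 : ∑ g ∈ csupp T m, ‖χ g‖ ^ 2 + ∑ g ∈ csupp T' m', ‖χ g‖ ^ 2 < Nat.card G := by
    rw [← Finset.sum_union (disjoint_csupp h h' hne), ← sum_norm hχ]
    have h4 : csupp T m ∪ csupp T' m' ⊆ Finset.univ.erase (1 : G) := by
      intro g hg
      refine Finset.mem_erase.2 ⟨?_, Finset.mem_univ _⟩
      rintro rfl
      rcases Finset.mem_union.1 hg with h5 | h5
      · exact one_notMem_csupp h5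
      · exact one_notMem_csupp h5
    have h5 := Finset.sum_le_sum_of_subset_of_nonneg (f := fun g => ‖χ g‖ ^ 2) h4 fun g _ _ => sq_nonneg _
    have h6 := Finset.add_sum_erase Finset.univ (fun g => ‖χ g‖ ^ 2) (Finset.mem_univ (1 : G))
    have h7 : 0 < ‖χ 1‖ ^ 2 := by
      have := isIrr_apply_one_ne_zero hχ
      positivity
    linarith
  have e1 : (∑ s ∈ supp T m, ‖χ s‖ ^ 2) / Nat.card (normalizer (T : Set G)) ≤
      (∑ g ∈ csupp T m, ‖χ g‖ ^ 2) / Nat.card G := by
    rw [div_le_div_iff₀ hN hG]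
    linarith
  have e2 : (∑ s ∈ supp T' m', ‖χ s‖ ^ 2) / Nat.card (normalizer (T' : Set G)) ≤
      (∑ g ∈ csupp T' m', ‖χ g‖ ^ 2) / Nat.card G := by
    rw [div_le_div_iff₀ hN' hG]
    linarith
  refine lt_of_le_of_lt (add_le_add e1 e2) ?_
  rw [← add_div, div_lt_one hG]
  exact h3

end Cfsg.Agent.H4.TCG
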