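import Cfsg.Agent.H221.TC.Val
import Cfsg.Agent.H4.TCG.Comb
import Cfsg.Agent.H4.TCG.Ti

/-!
# The norm of a character on the support of a torus as a variance (helper4; S2464, row G2(q))
-/

set_option autoImplicit false
set_option linter.unusedSectionVars false

open Cfsg Subgroup
open scoped ComplexConjugate

namespace Cfsg.Agent.H4.TCG

open Cfsg.Agent.Characters.Core Cfsg.Agent.H221.TC

universe u

variable {G : Type u} [Group G] {A T : Subgroup G} {m : ℕ}

/-- the elements of `T` of order dividing `m` -/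
def EE (m : ℕ) (T : Subgroup G) : Set T := {s | s ^ m = 1}

theorem comm_T (h : Tor A T m) (a b : T) : a * b = b * a := Subtype.ext (h.comm _ a.2 _ b.2)

theorem sameE_iff {l l' : T →* ℂˣ} : SameE m l l' ↔ ∀ t : T, t ^ m = 1 → l t = l' t := Iff.rfl

theorem same_symm {l l' : T →* ℂˣ} (h : SameE m l l') : SameE m l' l := fun t ht => (h t ht).symm

theorem same_trans {l l' l'' : T →* ℂˣ} (h : SameE m l l') (h' : SameE m l' l'') : SameE m l l'' :=
  fun t ht => (h t ht).trans (h' t ht)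

section

variable [Fintype G] [Fintype T] [Fintype (T →* ℂˣ)]

open Classical in
/-- sums over the elements of order dividing `m` -/
theorem sum_E (h : Tor A T m) (l l' : T →* ℂˣ) :
    ∑ s ∈ Finset.univ.filter (fun s : T => s ^ m = 1), lf l s * conj (lf l' s) =
      if SameE m l l' then ((Finset.univ.filter (fun s : T => s ^ m = 1)).card : ℂ) else 0 := by
  have hcj : ∀ s : T, conj (lf l' s) = ((l' s⁻¹ : ℂˣ) : ℂ) := by
    intro s
    have := isCharacter_apply_inv (isIrr_isCharacter (isIrr_lf l')) s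
    rw [← this]; rfl
  by_cases hs : SameE m l l'
  · rw [if_pos hs]
    have h1 : ∀ s ∈ Finset.univ.filter (fun s : T => s ^ m = 1), lf l s * conj (lf l' s) = 1 := by
      intro s hsm
      rw [hcj s, lf_apply, hs s (Finset.mem_filter.1 hsm).2, ← Units.val_mul, ← map_mul, mul_inv_cancel, map_one,
        Units.val_one]
    rw [Finset.sum_congr rfl h1]
    simp
  · rw [if_neg hs]
    rw [sameE_iff] at hs
    push Not at hs
    obtain ⟨s₀, hs₀, hne⟩ := hs
    set β : ℂ := ((l s₀ : ℂˣ) : ℂ) * ((l' s₀⁻¹ : ℂˣ) : ℂ) with hβ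
    have h2 : ∑ s ∈ Finset.univ.filter (fun s : T => s ^ m = 1), lf l s * conj (lf l' s) =
        ∑ s ∈ Finset.univ.filter (fun s : T => s ^ m = 1), lf l (s₀ * s) * conj (lf l' (s₀ * s)) := by
      symm
      refine Finset.sum_bij' (fun s _ => s₀ * s) (fun s _ => s₀⁻¹ * s) ?_ ?_ ?_ ?_ ?_
      · intro s hsm
        refine Finset.mem_filter.2 ⟨Finset.mem_univ _, ?_⟩
        have : Commute s₀ s := comm_T h _ _
        rw [this.mul_pow, hs₀, (Finset.mem_filter.1 hsm).2, one_mul]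
      · intro s hsm
        refine Finset.mem_filter.2 ⟨Finset.mem_univ _, ?_⟩
        have : Commute s₀⁻¹ s := comm_T h _ _
        rw [this.mul_pow, inv_pow, hs₀, (Finset.mem_filter.1 hsm).2, inv_one, one_mul]
      · intro s _; group
      · intro s _; group
      · intro s _; rfl
    have h3 : ∑ s ∈ Finset.univ.filter (fun s : T => s ^ m = 1), lf l (s₀ * s) * conj (lf l' (s₀ * s)) =
        β * ∑ s ∈ Finset.univ.filter (fun s : T => s ^ m = 1), lf l s * conj (lf l' s) := by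
      rw [Finset.mul_sum]
      refine Finset.sum_congr rfl fun s _ => ?_
      rw [hcj, hcj, lf_apply, lf_apply, mul_inv_rev, map_mul, map_mul, Units.val_mul, Units.val_mul, hβ]
      ring
    rw [h3] at h2
    have h4 : β ≠ 1 := by
      intro h5
      apply hne
      have h6 : l s₀ * l' s₀⁻¹ = 1 := Units.ext (by rw [Units.val_mul, Units.val_one]; exact h5)
      rw [map_inv] at h6
      exact mul_inv_eq_one.1 h6
    have h5 : (β - 1) * ∑ s ∈ Finset.univ.filter (fun s : T => s ^ m = 1), lf l s * conj (lf l' s) = 0 := by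
      linear_combination -h2
    exact (mul_eq_zero.1 h5).resolve_left (sub_ne_zero.2 h4)

theorem sum_T (h : Tor A T m) (l l' : T →* ℂˣ) [DecidableEq (T →* ℂˣ)] :
    ∑ s : T, lf l s * conj (lf l' s) = if l = l' then (Nat.card T : ℂ) else 0 := by
  have h1 := inner_lf l l'
  rw [classInner_def] at h1
  have hT0 : (Nat.card T : ℂ) ≠ 0 := by exact_mod_cast Nat.card_pos.ne'
  have h2 : ∑ s : T, lf l s * conj (lf l' s) =
      (Nat.card T : ℂ) * ((Nat.card T : ℂ)⁻¹ * ∑ s : T, lf l s * conj (lf l' s)) := by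
    rw [← mul_assoc, mul_inv_cancel₀ hT0, one_mul]
  rw [h2, h1]
  by_cases hl : l = l'
  · rw [if_pos hl, if_pos hl, mul_one]
  · rw [if_neg hl, if_neg hl, mul_zero]

open Classical in
/-- the number of elements of a class times the number of elements of order dividing `m` -/
theorem card_class (h : Tor A T m) (l : T →* ℂˣ) :
    (Finset.univ.filter fun l' : T →* ℂˣ => SameE m l l').card * (Finset.univ.filter (fun s : T => s ^ m = 1)).card =
      Nat.card T := by
  have h1 : ∑ l' : T →* ℂˣ, ∑ s ∈ Finset.univ.filter (fun s : T => s ^ m = 1), lf l s * conj (lf l' s) =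
      (((Finset.univ.filter fun l' : T →* ℂˣ => SameE m l l').card *
        (Finset.univ.filter (fun s : T => s ^ m = 1)).card : ℕ) : ℂ) := by
    rw [Finset.sum_congr rfl fun l' _ => sum_E h l l', ← Finset.sum_filter, Finset.sum_const, nsmul_eq_mul]
    push_cast; rfl
  have h2 : ∑ l' : T →* ℂˣ, ∑ s ∈ Finset.univ.filter (fun s : T => s ^ m = 1), lf l s * conj (lf l' s) =
      (Nat.card T : ℂ) := by
    rw [Finset.sum_comm]
    have hcj : ∀ (l' : T →* ℂˣ) (s : T), conj (lf l' s) = ((l' s⁻¹ : ℂˣ) : ℂ) := by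
      intro l' s
      have := isCharacter_apply_inv (isIrr_isCharacter (isIrr_lf l')) s
      rw [← this]; rfl
    rw [Finset.sum_eq_single (1 : T)]
    · have h3 : ∀ l' : T →* ℂˣ, lf l 1 * conj (lf l' 1) = 1 := by
        intro l'
        rw [lf_one, lf_one]; simp
      rw [Finset.sum_congr rfl fun l' _ => h3 l', Finset.sum_const, Finset.card_univ, ← Nat.card_eq_fintype_card,
        card_hom h]
      simp
    · intro s _ hs1
      rw [← Finset.mul_sum]
      have h4 : ∑ l' : T →* ℂˣ, conj (lf l' s) = 0 := by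
        rw [Finset.sum_congr rfl fun l' _ => hcj l' s]
        have h5 : s⁻¹ ≠ 1 := fun h6 => hs1 (inv_eq_one.1 h6)
        obtain ⟨β, hβ⟩ := exists_sep h h5
        exact sum_zero (S := Finset.univ) (exists_mul h β) (fun _ _ _ => by simp) hβ
      rw [h4, mul_zero]
    · intro h3
      exact absurd (by simp) h3
  have h3 := h1.symm.trans h2
  exact_mod_cast h3

/-- multiplicities -/
theorem exists_mult (T : Subgroup G) [Fintype T] {χ : G → ℂ} (hχ : IsCharacter G χ) :
    ∃ n : (T →* ℂˣ) → ℤ, ∀ l, classInner (fun s : T => χ s) (lf l) = (n l : ℂ) := by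
  have h1 : ∀ l : T →* ℂˣ, ∃ n : ℤ, classInner (fun s : T => χ s) (lf l) = (n : ℂ) := by
    intro l
    obtain ⟨a, ha⟩ := classInner_isNat (isCharacter_comp T.subtype hχ) (isIrr_isCharacter (isIrr_lf l))
    refine ⟨a, ?_⟩
    rw [Int.cast_natCast, ← ha]
    rfl
  choose n hn using h1
  exact ⟨n, hn⟩

open Classical in
/-- **The variance formula.** -/
theorem variance (h : Tor A T m) {χ : G → ℂ} {n : (T →* ℂˣ) → ℤ}
    (hn : ∀ l, classInner (fun s : T => χ s) (lf l) = (n l : ℂ)) {k e : ℕ}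
    (he : (Finset.univ.filter (fun s : T => s ^ m = 1)).card = e) (hk : k * e = Nat.card T) :
    2 * ∑ s ∈ supp T m, ‖χ s‖ ^ 2 = (e : ℝ) * (QQ (SameE (T := T) m) n : ℤ) := by
  have he0 : e ≠ 0 := by
    rintro rfl
    rw [mul_zero] at hk
    exact Nat.card_pos.ne hk
  have hkl : ∀ l : T →* ℂˣ, (Finset.univ.filter fun l' : T →* ℂˣ => SameE m l l').card = k := by
    intro l
    have := card_class h l
    rw [he, ← hk] at this
    exact Nat.eq_of_mul_eq_mul_right (Nat.pos_of_ne_zero he0) this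
  have hF : ∀ s : T, χ s = ∑ l : T →* ℂˣ, (n l : ℂ) * lf l s := by
    intro s
    have := fourier h (fun s : T => χ s) s
    rw [this]
    exact Finset.sum_congr rfl fun l _ => by rw [hn l, lf_apply]
  have hab : ∀ s : T, (((‖χ s‖ ^ 2 : ℝ)) : ℂ) = ∑ l : T →* ℂˣ, ∑ l' : T →* ℂˣ, (n l : ℂ) * n l' * (lf l s * conj (lf l' s)) := by
    intro s
    have h1 : (((‖χ s‖ ^ 2 : ℝ)) : ℂ) = χ s * conj (χ s) := by
      rw [Complex.mul_conj, Complex.normSq_eq_norm_sq]
    rw [h1, hF s, map_sum, Finset.sum_mul_sum]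
    refine Finset.sum_congr rfl fun l _ => Finset.sum_congr rfl fun l' _ => ?_
    rw [map_mul, map_intCast]
    ring
  -- the sum over `T`
  have hT : ((∑ s : T, ‖χ s‖ ^ 2 : ℝ) : ℂ) = (Nat.card T : ℂ) * ∑ l : T →* ℂˣ, (n l : ℂ) ^ 2 := by
    push_cast
    have h1 : ∀ s : T, ((‖χ s‖ : ℂ)) ^ 2 = ∑ l : T →* ℂˣ, ∑ l' : T →* ℂˣ, (n l : ℂ) * n l' * (lf l s * conj (lf l' s)) := by
      intro s
      rw [← hab s]; push_cast; rfl
    rw [Finset.sum_congr rfl fun s _ => h1 s, Finset.sum_comm, Finset.mul_sum]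
    refine Finset.sum_congr rfl fun l _ => ?_
    rw [Finset.sum_comm]
    have h2 : ∀ l' : T →* ℂˣ, ∑ s : T, (n l : ℂ) * n l' * (lf l s * conj (lf l' s)) =
        if l = l' then (n l : ℂ) * n l' * (Nat.card T : ℂ) else 0 := by
      intro l'
      rw [← Finset.mul_sum, sum_T h]
      split_ifs <;> simp
    rw [Finset.sum_congr rfl fun l' _ => h2 l', Finset.sum_ite_eq, if_pos (Finset.mem_univ _)]
    ring
  -- the sum over the elements of order dividing `m`
  have hE : ((∑ s ∈ Finset.univ.filter (fun s : T => s ^ m = 1), ‖χ s‖ ^ 2 : ℝ) : ℂ) =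
      (e : ℂ) * ∑ l : T →* ℂˣ, ∑ l' : T →* ℂˣ, if SameE m l l' then (n l : ℂ) * n l' else 0 := by
    push_cast
    have h1 : ∀ s : T, ((‖χ s‖ : ℂ)) ^ 2 = ∑ l : T →* ℂˣ, ∑ l' : T →* ℂˣ, (n l : ℂ) * n l' * (lf l s * conj (lf l' s)) := by
      intro s
      rw [← hab s]; push_cast; rfl
    rw [Finset.sum_congr rfl fun s _ => h1 s, Finset.sum_comm, Finset.mul_sum]
    refine Finset.sum_congr rfl fun l _ => ?_
    rw [Finset.sum_comm, Finset.mul_sum]
    refine Finset.sum_congr rfl fun l' _ => ?_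
    rw [← Finset.mul_sum, sum_E h, he]
    split_ifs <;> ring
  -- the quadratic form
  have hQ : ((QQ (SameE (T := T) m) n : ℤ) : ℂ) = 2 * k * ∑ l : T →* ℂˣ, (n l : ℂ) ^ 2 -
      2 * ∑ l : T →* ℂˣ, ∑ l' : T →* ℂˣ, if SameE m l l' then (n l : ℂ) * n l' else 0 := by
    unfold QQ
    push_cast
    have h1 : ∀ l l' : T →* ℂˣ, (if SameE m l l' then ((n l : ℂ) - n l') ^ 2 else 0) =
        (if SameE m l l' then (n l : ℂ) ^ 2 else 0) + (if SameE m l l' then (n l' : ℂ) ^ 2 else 0) -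
        2 * (if SameE m l l' then (n l : ℂ) * n l' else 0) := by
      intro l l'
      split_ifs <;> ring
    have h2 : ∑ l : T →* ℂˣ, ∑ l' : T →* ℂˣ, (if SameE m l l' then (n l : ℂ) ^ 2 else 0) =
        k * ∑ l : T →* ℂˣ, (n l : ℂ) ^ 2 := by
      rw [Finset.mul_sum]
      refine Finset.sum_congr rfl fun l _ => ?_
      rw [← Finset.sum_filter, Finset.sum_const, hkl l, nsmul_eq_mul]
    have h3 : ∑ l : T →* ℂˣ, ∑ l' : T →* ℂˣ, (if SameE m l l' then (n l' : ℂ) ^ 2 else 0) =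
        k * ∑ l : T →* ℂˣ, (n l : ℂ) ^ 2 := by
      rw [Finset.sum_comm, ← h2]
      refine Finset.sum_congr rfl fun l _ => Finset.sum_congr rfl fun l' _ => ?_
      by_cases hs : SameE m l l'
      · rw [if_pos hs, if_pos (same_symm hs)]
      · rw [if_neg hs, if_neg fun h4 => hs (same_symm h4)]
    have h4 : ∀ l : T →* ℂˣ, ∑ l' : T →* ℂˣ, (if SameE m l l' then ((n l : ℂ) - n l') ^ 2 else 0) =
        ∑ l' : T →* ℂˣ, (if SameE m l l' then (n l : ℂ) ^ 2 else 0) +
        ∑ l' : T →* ℂˣ, (if SameE m l l' then (n l' : ℂ) ^ 2 else 0) -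
        2 * ∑ l' : T →* ℂˣ, (if SameE m l l' then (n l : ℂ) * n l' else 0) := by
      intro l
      rw [Finset.sum_congr rfl fun l' _ => h1 l l', Finset.sum_sub_distrib, Finset.sum_add_distrib, ← Finset.mul_sum]
    rw [Finset.sum_congr rfl fun l _ => h4 l, Finset.sum_sub_distrib, Finset.sum_add_distrib, h2, h3, ← Finset.mul_sum]
    ring
  have hs : ∑ s ∈ supp T m, ‖χ s‖ ^ 2 = ∑ s : T, ‖χ s‖ ^ 2 -
      ∑ s ∈ Finset.univ.filter (fun s : T => s ^ m = 1), ‖χ s‖ ^ 2 := by
    have h1 : ∑ s ∈ supp T m, ‖χ s‖ ^ 2 = ∑ s ∈ Finset.univ.filter (fun s : T => ¬ s ^ m = 1), ‖χ s‖ ^ 2 := by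
      symm
      refine Finset.sum_bij (fun s _ => (s : G)) ?_ ?_ ?_ ?_
      · intro s hs
        rw [mem_supp]
        refine ⟨s.2, fun h2 => (Finset.mem_filter.1 hs).2 (Subtype.ext (by simpa using h2))⟩
      · intro s _ s' _ h2; exact Subtype.ext h2
      · intro g hg
        obtain ⟨h2, h3⟩ := mem_supp.1 hg
        refine ⟨⟨g, h2⟩, Finset.mem_filter.2 ⟨Finset.mem_univ _, fun h4 => h3 ?_⟩, rfl⟩
        have := congrArg (Subtype.val : T → G) h4
        simpa using this
      · intro s _; rfl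
    rw [h1, ← Finset.sum_filter_add_sum_filter_not Finset.univ (fun s : T => s ^ m = 1)]
    ring
  have hfin : ((2 * ∑ s ∈ supp T m, ‖χ s‖ ^ 2 : ℝ) : ℂ) = (((e : ℝ) * (QQ (SameE (T := T) m) n : ℤ) : ℝ) : ℂ) := by
    rw [hs]
    rw [Complex.ofReal_mul, Complex.ofReal_sub, hT, hE]
    have h5 : (((e : ℝ) * (QQ (SameE (T := T) m) n : ℤ) : ℝ) : ℂ) = (e : ℂ) * ((QQ (SameE (T := T) m) n : ℤ) : ℂ) := by
      push_cast; rfl
    rw [h5, hQ, ← hk]
    push_cast
    ring
  exact_mod_cast hfin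

end

end Cfsg.Agent.H4.TCG
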