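import Cfsg.Agent.H4.TCG.Four
import Cfsg.Agent.H221.TC.Fam

/-!
# Orbits of the normalizer and the constant characters (helper4; S2464, row G2(q))
-/

set_option autoImplicit false
set_option linter.unusedSectionVars false

open Cfsg Subgroup
open scoped ComplexConjugate

namespace Cfsg.Agent.H4.TCG

open Cfsg.Agent.Characters.Core Cfsg.Agent.H221.TC

universe u

variable {G : Type u} [Group G] {A T : Subgroup G} {m : ℕ}

theorem cj_bij [Finite G] (x : normalizer (T : Set G)) : Function.Bijective (cj x : T →* T) := by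
  rw [← Finite.injective_iff_bijective]
  intro a b hab
  have h1 := congrArg (Subtype.val : T → G) hab
  rw [cj_apply, cj_apply] at h1
  exact Subtype.ext (mul_left_cancel (mul_right_cancel h1))

section

variable [Fintype G] [Fintype T]

/-- the multiplicities are invariant under the normalizer -/
theorem mult_inv {χ : G → ℂ} (hχ : IsClassFunction G χ) {n : (T →* ℂˣ) → ℤ}
    (hn : ∀ l, classInner (fun s : T => χ s) (lf l) = (n l : ℂ)) (x : normalizer (T : Set G)) (l : T →* ℂˣ) :
    n (l.comp (cj x)) = n l := by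
  have h1 : (n (l.comp (cj x)) : ℂ) = n l := by
    rw [← hn, ← hn, classInner_def, classInner_def]
    congr 1
    rw [isClassFunction_def] at hχ
    have h2 : ∀ s : T, χ s * conj (lf (l.comp (cj x)) s) = χ (cj x s : T) * conj (lf l (cj x s)) := by
      intro s
      rw [cj_apply]
      have := hχ (s : G) (x : G)⁻¹
      rw [inv_inv] at this
      rw [this]
      rfl
    rw [Finset.sum_congr rfl fun s _ => h2 s]
    exact (Equiv.ofBijective _ (cj_bij x)).sum_comp (fun s : T => χ s * conj (lf l s))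
  exact_mod_cast h1

theorem comp_inj {x : normalizer (T : Set G)} {l l' : T →* ℂˣ} (h : l.comp (cj x) = l'.comp (cj x)) : l = l' := by
  ext t
  obtain ⟨s, rfl⟩ := (cj_bij x).2 t
  exact congrArg Units.val (DFunLike.congr_fun h s)

theorem same_comp {x : normalizer (T : Set G)} {l l' : T →* ℂˣ} (h : SameE m l l') :
    SameE m (l.comp (cj x)) (l'.comp (cj x)) := by
  intro t ht
  rw [MonoidHom.comp_apply, MonoidHom.comp_apply]
  refine h _ ?_
  rw [← map_pow, ht, map_one]

variable [Fintype (T →* ℂˣ)]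

open Classical in
theorem dd_inv {χ : G → ℂ} (hχ : IsClassFunction G χ) {n : (T →* ℂˣ) → ℤ}
    (hn : ∀ l, classInner (fun s : T => χ s) (lf l) = (n l : ℂ)) (x : normalizer (T : Set G)) (l : T →* ℂˣ) :
    dd (SameE (T := T) m) n l ≤ dd (SameE (T := T) m) n (l.comp (cj x)) := by
  unfold dd
  refine Finset.card_le_card_of_injOn (fun b => b.comp (cj x)) ?_ ?_
  · intro b hb
    obtain ⟨h1, h2⟩ := (Finset.mem_filter.1 (Finset.mem_coe.1 hb)).2
    refine Finset.mem_coe.2 (Finset.mem_filter.2 ⟨Finset.mem_univ _, same_comp h1, ?_⟩)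
    rw [mult_inv hχ hn, mult_inv hχ hn]
    exact h2
  · intro b _ b' _ h
    exact comp_inj h

open Classical in
theorem exists_orbit (h : Tor A T m) {l : T →* ℂˣ} (hl : Nt A l) {w : ℕ}
    (hN : Nat.card (normalizer (T : Set G)) = w * Nat.card T) :
    ∃ S : Finset (T →* ℂˣ), S.card = w ∧ ∀ a ∈ S, ∃ x : normalizer (T : Set G), a = l.comp (cj x) := by
  have := Fintype.ofFinite (normalizer (T : Set G))
  let f : normalizer (T : Set G) → (T →* ℂˣ) := fun x => l.comp (cj x)
  have h1 : (Finset.univ : Finset (normalizer (T : Set G))).card ≤ Nat.card T * (Finset.univ.image f).card := by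
    refine Finset.card_le_mul_card_image _ _ ?_
    intro a ha
    obtain ⟨x₀, -, hx₀⟩ := Finset.mem_image.1 ha
    have h2 : (Finset.univ.filter fun x => f x = a).card ≤ (Finset.univ.filter fun g : G => g ∈ T).card := by
      refine Finset.card_le_card_of_injOn (fun x => (x₀⁻¹ * x : G)) ?_ ?_
      · intro x hx
        have hx' := (Finset.mem_filter.1 (Finset.mem_coe.1 hx)).2
        refine Finset.mem_coe.2 (Finset.mem_filter.2 ⟨Finset.mem_univ _, ?_⟩)
        have h3 : l.comp (cj (x₀⁻¹ * x)) = l := by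
          rw [cj_mul, ← MonoidHom.comp_assoc]
          have h4 : l.comp (cj x) = l.comp (cj x₀) := hx'.trans hx₀.symm
          rw [h4, MonoidHom.comp_assoc, ← cj_mul, inv_mul_cancel, cj_one, MonoidHom.comp_id]
        have h5 := mem_of_fix h hl h3
        rw [Subgroup.coe_mul, Subgroup.coe_inv] at h5
        exact h5
      · intro x _ y _ hxy
        exact Subtype.ext (mul_left_cancel hxy)
    refine h2.trans ?_
    rw [Nat.card_eq_fintype_card, Fintype.card_subtype]
  rw [Finset.card_univ, ← Nat.card_eq_fintype_card, hN, mul_comm] at h1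
  have h2 : w ≤ (Finset.univ.image f).card := Nat.le_of_mul_le_mul_left h1 Nat.card_pos
  obtain ⟨S, hS1, hS2⟩ := Finset.exists_subset_card_eq h2
  refine ⟨S, hS2, fun a ha => ?_⟩
  obtain ⟨x, -, hx⟩ := Finset.mem_image.1 (hS1 ha)
  exact ⟨x, hx.symm⟩

open Classical in
/-- a nonconstant family -/
theorem QQ_ge_orbit (h : Tor A T m) {χ : G → ℂ} (hχ : IsClassFunction G χ) {n : (T →* ℂˣ) → ℤ}
    (hn : ∀ l, classInner (fun s : T => χ s) (lf l) = (n l : ℂ)) {w k : ℕ}
    (hN : Nat.card (normalizer (T : Set G)) = w * Nat.card T)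
    (hk : ∀ l : T →* ℂˣ, k ≤ (Finset.univ.filter fun l' : T →* ℂˣ => SameE m l l').card)
    {l l' : T →* ℂˣ} (hl : Nt A l) (hl' : Nt A l') (hs : SameE m l l') (hne : n l ≠ n l') :
    (2 * w * k : ℤ) - 2 * w ^ 2 ≤ QQ (SameE (T := T) m) n := by
  obtain ⟨S₁, h1, h2⟩ := exists_orbit h hl hN
  obtain ⟨S₂, h3, h4⟩ := exists_orbit h hl' hN
  have h5 : k ≤ dd (SameE (T := T) m) n l + dd (SameE (T := T) m) n l' :=
    dd_add (r := SameE (T := T) m) (fun _ _ => same_symm) (fun _ _ _ => same_trans) n (hk l) hs hne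
  refine QQ_ge (r := SameE (T := T) m) (fun _ _ => same_symm) n h1 h3 (u := n l) (v := n l') ?_ ?_ hne
    (d₁ := dd (SameE (T := T) m) n l) (d₂ := dd (SameE (T := T) m) n l') ?_ ?_ h5
  · intro a ha
    obtain ⟨x, rfl⟩ := h2 a ha
    exact mult_inv hχ hn x l
  · intro a ha
    obtain ⟨x, rfl⟩ := h4 a ha
    exact mult_inv hχ hn x l'
  · intro a ha
    obtain ⟨x, rfl⟩ := h2 a ha
    exact dd_inv hχ hn x l
  · intro a ha
    obtain ⟨x, rfl⟩ := h4 a ha
    exact dd_inv hχ hn x l'

end

end Cfsg.Agent.H4.TCG
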