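import Cfsg.Agent.H4.TCG.Orb
import Cfsg.Agent.H221.TC.Cor
import Cfsg.Agent.H641.TC6.Tor
import Cfsg.Agent.Characters.GaloisBasic

/-!
# Two tori of `G₂(q)`: the characters nonzero on both (helper4; S2464, row G2(q))
-/

set_option autoImplicit false
set_option linter.unusedSectionVars false

open Cfsg Subgroup
open scoped ComplexConjugate

namespace Cfsg.Agent.H4.TCG

open Cfsg.Agent.Characters.Core Cfsg.Agent.H221.TC Cfsg.Agent.H641.TC6

universe u

variable {G : Type u} [Group G] {A T A' T' : Subgroup G} {m n m' n' : ℕ}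

section Data

variable [Finite G]

theorem tor_of (D : TorD G m n 6 A T) (h3 : m ∣ 3 * n) (hn : n.Coprime 3) : Tor A T 3 where
  comm a ha b hb := comm_of_cyc D.cycT ha hb
  le := D.le
  cent a ha h1 := (D.cent a ha h1).le
  pow t ht := by
    refine D.mem (pow_mem ht 3) ?_
    apply orderOf_dvd_of_pow_eq_one
    rw [← pow_mul]
    have h2 : orderOf t ∣ m := by rw [← D.cardT]; exact Subgroup.orderOf_dvd_natCard T ht
    exact orderOf_dvd_iff_pow_eq_one.1 (h2.trans h3)
  cop := by rw [D.cardA]; exact hn.symm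

theorem dvd_of (D : TorD G m n 6 A T) : n ∣ m := by
  rw [← D.cardA, ← D.cardT]
  exact Subgroup.card_dvd_of_le D.le

theorem m_cases (D : TorD G m n 6 A T) (h3 : m ∣ 3 * n) (hn : n.Coprime 3) : (m = n ∧ ¬ 3 ∣ m) ∨ (m = n * 3 ∧ 3 ∣ m) := by
  obtain ⟨c, hc⟩ := dvd_of D
  have hn0 : 0 < n := by rw [← D.cardA]; exact Nat.card_pos
  have h1 : c ∣ 3 := by
    rw [hc, mul_comm 3 n] at h3
    exact Nat.dvd_of_mul_dvd_mul_left hn0 h3
  rcases (Nat.dvd_prime Nat.prime_three).1 h1 with rfl | rfl
  · left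
    rw [mul_one] at hc
    refine ⟨hc, ?_⟩
    rw [hc]
    intro h
    have := Nat.dvd_gcd h (dvd_refl 3)
    rw [hn] at this
    omega
  · right
    exact ⟨hc, by rw [hc]; exact dvd_mul_left 3 n⟩

open Classical in
/-- the number of elements of order dividing `3` -/
theorem card_E [Fintype T] (D : TorD G m n 6 A T) (h3 : m ∣ 3 * n) (hn : n.Coprime 3) :
    n * (Finset.univ.filter fun s : T => s ^ 3 = 1).card = Nat.card T := by
  rw [D.cardT]
  rcases m_cases D h3 hn with ⟨h1, h2⟩ | ⟨h1, h2⟩
  · have h4 : (Finset.univ.filter fun s : T => s ^ 3 = 1) = {1} := by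
      ext s
      rw [Finset.mem_filter, Finset.mem_singleton]
      constructor
      · rintro ⟨-, h5⟩
        have h6 : s ^ m = 1 := by rw [← D.cardT]; exact pow_card_eq_one'
        have h7 : Nat.Coprime 3 m := (Nat.Prime.coprime_iff_not_dvd Nat.prime_three).2 h2
        have h8 : orderOf s ∣ Nat.gcd 3 m := Nat.dvd_gcd (orderOf_dvd_of_pow_eq_one h5) (orderOf_dvd_of_pow_eq_one h6)
        rw [h7] at h8
        exact orderOf_eq_one_iff.1 (Nat.dvd_one.1 h8)
      · rintro rfl
        exact ⟨Finset.mem_univ _, one_pow _⟩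
    rw [h4, Finset.card_singleton, mul_one, h1]
  · have h5 : (Finset.univ.filter fun s : T => s ^ 3 = 1).card = 3 := by
      apply le_antisymm
      · have := D.cycT
        exact IsCyclic.card_pow_eq_one_le (by norm_num)
      · have : Fact (Nat.Prime 3) := ⟨Nat.prime_three⟩
        obtain ⟨e, he⟩ := exists_prime_orderOf_dvd_card' (G := T) 3 (by rw [D.cardT]; exact h2)
        have h6 : ({1, e, e ^ 2} : Finset T) ⊆ Finset.univ.filter fun s : T => s ^ 3 = 1 := by
          have h7 : e ^ 3 = 1 := by rw [← he]; exact pow_orderOf_eq_one e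
          intro s hs
          rw [Finset.mem_filter]
          refine ⟨Finset.mem_univ _, ?_⟩
          rw [Finset.mem_insert, Finset.mem_insert, Finset.mem_singleton] at hs
          rcases hs with rfl | rfl | rfl
          · exact one_pow _
          · exact h7
          · rw [← pow_mul, mul_comm, pow_mul, h7, one_pow]
        have h8 : ({1, e, e ^ 2} : Finset T).card = 3 := by
          rw [Finset.card_insert_of_notMem, Finset.card_insert_of_notMem, Finset.card_singleton]
          · rw [Finset.mem_singleton]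
            intro h9
            have : e ^ 1 = 1 := by
              have h10 : e * 1 = e * e := by rw [mul_one, ← pow_two]; exact h9
              rw [pow_one]; exact (mul_left_cancel h10).symm
            have := orderOf_dvd_of_pow_eq_one this
            rw [he] at this
            omega
          · rw [Finset.mem_insert, Finset.mem_singleton]
            rintro (h9 | h9)
            · rw [← h9, orderOf_one] at he
              omega
            · have := orderOf_dvd_of_pow_eq_one h9.symm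
              rw [he] at this
              omega
        calc 3 = ({1, e, e ^ 2} : Finset T).card := h8.symm
          _ ≤ _ := Finset.card_le_card h6
    rw [h5, h1]

end Data

section Main

variable [Fintype G]

open Classical in
/-- the form of a character on a torus -/
theorem exists_form [Fintype T] [Fintype (T →* ℂˣ)] (D : TorD G m n 6 A T) (h3 : m ∣ 3 * n) (hn : n.Coprime 3)
    {χ : G → ℂ} (hχ : IsIrrCharacter G χ) :
    ∃ f : (T →* ℂˣ) → ℤ, (∀ l, classInner (fun s : T => χ s) (lf l) = (f l : ℂ)) ∧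
      (∑ s ∈ supp T 3, ‖χ s‖ ^ 2) / Nat.card (normalizer (T : Set G)) =
        ((QQ (SameE (T := T) 3) f : ℤ) : ℝ) / (12 * n) ∧
      (∀ l : T →* ℂˣ, (Finset.univ.filter fun l' : T →* ℂˣ => SameE 3 l l').card = n) := by
  have h := tor_of D h3 hn
  obtain ⟨f, hf⟩ := exists_mult T (isIrr_isCharacter hχ)
  refine ⟨f, hf, ?_, ?_⟩
  · have h1 := variance h hf (k := n) rfl (card_E D h3 hn)
    set e := (Finset.univ.filter fun s : T => s ^ 3 = 1).card with he
    have h2 : n * e = m := by rw [← D.cardT]; exact card_E D h3 hn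
    have hN : Nat.card (normalizer (T : Set G)) = 6 * m := by rw [← D.normA, D.cardN]
    have hm0 : 0 < m := by rw [← D.cardT]; exact Nat.card_pos
    have hn0 : n ≠ 0 := by rintro rfl; omega
    have he0 : e ≠ 0 := by intro h4; rw [h4] at h2; omega
    have hn' : (n : ℝ) ≠ 0 := by exact_mod_cast hn0
    have he' : (e : ℝ) ≠ 0 := by exact_mod_cast he0
    rw [hN, ← h2]
    push_cast
    have h5 : ∑ s ∈ supp T 3, ‖χ s‖ ^ 2 = (e : ℝ) * (QQ (SameE (T := T) 3) f : ℤ) / 2 := by linarith
    rw [h5]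
    field_simp
    ring
  · intro l
    have h1 := card_class h l
    rw [← card_E D h3 hn] at h1
    have h2 : 0 < (Finset.univ.filter fun s : T => s ^ 3 = 1).card :=
      Finset.card_pos.2 ⟨1, Finset.mem_filter.2 ⟨Finset.mem_univ _, one_pow _⟩⟩
    exact Nat.eq_of_mul_eq_mul_right h2 h1

/-- the share of a torus on which the character is not zero -/
theorem share_ge (D : TorD G m n 6 A T) (h3 : m ∣ 3 * n) (hn : n.Coprime 3)
    {χ : G → ℂ} (hχ : IsIrrCharacter G χ) {y : G} (hy : y ∈ supp T 3) (hy0 : χ y ≠ 0) :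
    ((n : ℝ) - 1) / (6 * n) ≤ (∑ s ∈ supp T 3, ‖χ s‖ ^ 2) / Nat.card (normalizer (T : Set G)) := by
  classical
  have := Fintype.ofFinite T
  have : Finite (T →* ℂˣ) := finite_hom
  have := Fintype.ofFinite (T →* ℂˣ)
  obtain ⟨f, -, h1, h2⟩ := exists_form D h3 hn hχ
  have hn0 : (0 : ℝ) < n := by
    have : 0 < n := by rw [← D.cardA]; exact Nat.card_pos
    exact_mod_cast this
  rw [h1]
  have h4 : QQ (SameE (T := T) 3) f ≠ 0 := by
    intro h5
    rw [h5] at h1
    have h6 : 0 < ∑ s ∈ supp T 3, ‖χ s‖ ^ 2 :=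
      Finset.sum_pos' (fun s _ => sq_nonneg _) ⟨y, hy, by positivity⟩
    have h7 : (0 : ℝ) < Nat.card (normalizer (T : Set G)) := by exact_mod_cast Nat.card_pos
    have h8 : 0 < (∑ s ∈ supp T 3, ‖χ s‖ ^ 2) / Nat.card (normalizer (T : Set G)) := div_pos h6 h7
    rw [h1] at h8
    simp at h8
  obtain ⟨a, b, hab, hne⟩ := exists_pair f h4
  have h5 := QQ_ge_two (r := SameE (T := T) 3) (fun _ _ => same_symm) (fun _ _ _ => same_trans) f (h2 a).ge hab hne
  have h6 : (2 * (n : ℝ) - 2) ≤ ((QQ (SameE (T := T) 3) f : ℤ) : ℝ) := by exact_mod_cast h5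
  rw [div_le_div_iff₀ (by positivity) (by positivity)]
  nlinarith

open Classical in
/-- **constant multiplicities** -/
theorem const_mult [Fintype T] [Fintype (T →* ℂˣ)] (D : TorD G m n 6 A T) (h3 : m ∣ 3 * n) (hn : n.Coprime 3)
    (D' : TorD G m' n' 6 A' T') (h3' : m' ∣ 3 * n') (hn' : n'.Coprime 3) (hne : m ≠ m')
    (hk : 36 * n' + n ≤ n * n')
    {χ : G → ℂ} (hχ : IsIrrCharacter G χ) {y : G} (hy : y ∈ supp T' 3) (hy0 : χ y ≠ 0)
    (l l' : T →* ℂˣ) (hl : Nt A l) (hl' : Nt A l') (hs : SameE 3 l l') :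
    classInner (fun s : T => χ s) (lf l) = classInner (fun s : T => χ s) (lf l') := by
  have h := tor_of D h3 hn
  have h' := tor_of D' h3' hn'
  obtain ⟨f, hf, h1, h2⟩ := exists_form D h3 hn hχ
  rw [hf, hf]
  by_contra hc
  have hc' : f l ≠ f l' := fun h4 => hc (by rw [h4])
  have hN : Nat.card (normalizer (T : Set G)) = 6 * Nat.card T := by rw [← D.normA, D.cardN, D.cardT]
  have h4 := QQ_ge_orbit h (isIrr_isClassFunction hχ) hf hN (fun l => (h2 l).ge) hl hl' hs hc'
  have h5 := joint h h' (by rw [D.cardT, D'.cardT]; exact hne) hχ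
  have h6 := share_ge D' h3' hn' hχ hy hy0
  rw [h1] at h5
  have hn0 : (0 : ℝ) < n := by
    have : 0 < n := by rw [← D.cardA]; exact Nat.card_pos
    exact_mod_cast this
  have hn0' : (0 : ℝ) < n' := by
    have : 0 < n' := by rw [← D'.cardA]; exact Nat.card_pos
    exact_mod_cast this
  have h7 : (12 * (n : ℝ) - 72) ≤ ((QQ (SameE (T := T) 3) f : ℤ) : ℝ) := by
    have : (2 * (6 : ℕ) * n : ℤ) - 2 * (6 : ℕ) ^ 2 = 12 * n - 72 := by push_cast; ring
    rw [this] at h4
    exact_mod_cast h4
  have h8 : (12 * (n : ℝ) - 72) / (12 * n) + ((n' : ℝ) - 1) / (6 * n') < 1 := by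
    have e1 : (12 * (n : ℝ) - 72) / (12 * n) ≤ ((QQ (SameE (T := T) 3) f : ℤ) : ℝ) / (12 * n) :=
      div_le_div_of_nonneg_right h7 (by positivity)
    linarith
  have h9 : (36 * (n' : ℝ) + n) ≤ n * n' := by exact_mod_cast hk
  have h10 : (12 * (n : ℝ) - 72) / (12 * n) + ((n' : ℝ) - 1) / (6 * n') =
      ((12 * (n : ℝ) - 72) * (6 * n') + ((n' : ℝ) - 1) * (12 * n)) / (12 * n * (6 * n')) := by
    field_simp
  rw [h10, div_lt_one (by positivity)] at h8
  nlinarith

end Main

end Cfsg.Agent.H4.TCG
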